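import Groth.Agent.Lib.NumTriv12.Main
import Groth.Agent.Lib.NumReg26.Proper
import Groth.Agent.Lib.QCoh.SupportPullback
import Groth.Agent.Lib.Jets.ZeroIdeal
import Groth.Prelude.Def_PicF2

/-!
# Numerical triviality and zero schemes of ample sections
-/

universe u

set_option autoImplicit false
set_option linter.all false
set_option backward.isDefEq.respectTransparency false
set_option maxHeartbeats 2000000
set_option synthInstance.maxHeartbeats 100000

open CategoryTheory CategoryTheory.Limits AlgebraicGeometry TopologicalSpace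

noncomputable section

namespace GrothLib.NumRestr12

open GrothLib.Cube (Pic clsMod pull HasCls hasCls_clsMod)
open GrothLib.HodgeIndex (rep isInv_rep cls_rep)
open GrothLib.Snapper (IsTop DimLT ptMod topTerm tw)
open GrothLib.FGAInt26 (del ev del_cons)
open GrothLib.QCoh (stalkLin)

variable {X : Scheme.{u}}

/-- The cokernel of a section of an invertible module is supported on the zero scheme. -/
theorem support_cokernel_subset {L : X.Modules} (hL : PicF.IsInvertible L) (s : Coh.structureModule X ⟶ L) :
    CohB1.support (cokernel s) ⊆ Set.range (PicF2.zeroScheme L s).subschemeι := by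
  intro y hy
  rw [Scheme.IdealSheafData.range_subschemeι]
  by_contra hns
  obtain ⟨V, e, hyV, he⟩ := InvExt.exists_gen_nhd hL y
  obtain ⟨U, hU, hyU, hUV⟩ := exists_isAffineOpen_mem_and_subset hyV
  rw [SetLike.mem_coe, Scheme.IdealSheafData.mem_support_iff_of_mem (U := ⟨U, hU⟩) hyU,
    Scheme.mem_zeroLocus_iff] at hns
  push Not at hns
  obtain ⟨a, ha, hay⟩ := hns
  rw [Jets.zeroScheme_ideal hL s ⟨U, hU⟩] at ha
  have hg := Ref1.gen_of_isGen (he.restrict (show U ≤ V from hUV)) hyU
  obtain ⟨b, hb⟩ := ha (InvExt.mres L (show U ≤ V from hUV) e)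
  refine QCoh.notMem_support_cokernel_of_surjective s (fun v => ?_) hy
  obtain ⟨c, hc⟩ := hg.2 v
  obtain ⟨w, hw⟩ := (show IsUnit (X.presheaf.germ U y hyU a) from (Scheme.mem_basicOpen _ _ y hyU).1 hay)
  refine ⟨(c * ↑w⁻¹) • (Coh.structureModule X).presheaf.germ U y hyU b, ?_⟩
  rw [map_smul, QCoh.stalkLin_germ, Mero.Zero.app_eq_smul_secVal L s U b, ← hb, Mero.germ_smul L U y hyU a, ← hw,
    smul_smul, mul_assoc, Units.inv_mul, mul_one]
  exact hc

variable (k : Type u) [Field k] [X.Over (Spec (CommRingCat.of k))] [IsProper (X ↘ Spec (CommRingCat.of k))]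

/-- A class of degree zero on the curves of a closed subset does not change `χ` of modules supported there. -/
theorem ev_eq_on {T : Set X} {z : Pic X}
    (hz : ∀ (Y : Scheme.{u}) (i : Y ⟶ X) [IsClosedImmersion i], IsIntegral Y → topologicalKrullDim Y = 1 →
      Set.range i ⊆ T →
        Pic13.curveDeg k (i ≫ X ↘ Spec (CommRingCat.of k)) ((Scheme.Modules.pullback i).obj (rep z)) = 0)
    (hT : IsClosed T) {G : X.Modules} (hG : Coh.IsCoh G) (hs : CohB1.support G ⊆ T) :
    ev k G z = ev k G 1 := by
  haveI := Euler.isNoetherian_of_proper (X := X) k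
  obtain ⟨D, hD⟩ := Hilb20.exists_dimLT (k := k) (CohB1.support G)
  induction D generalizing G with
  | zero =>
    have hzero : ∀ w : Pic X, Curv2.euler k X (tw G w) = 0 := fun w => by
      rw [Euler.euler_eq_sum k _ (N := 0) fun q _ => Cohom.subsingleton_HH_of_isZero (Hilb20.isZero_of_support_eq_empty
        (Snapper.eq_empty_of_dimLT_zero (FGAInt26.dimLT_tw hD _))) q]
      simp only [Finset.range_zero, Finset.sum_empty]
    rw [ev, ev, hzero, hzero]
  | succ d ih =>
    let φ : X.Modules → ℤ := fun M => ev k M z - ev k M 1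
    have hS := QCoh.isClosed_support_of_isCoh hG
    have hiso : ∀ M N : X.Modules, Nonempty (M ≅ N) → φ M = φ N := fun M N ⟨e⟩ => by
      simp only [φ, FGAInt26.ev_iso k e]
    have hadd : ∀ S : ShortComplex X.Modules, S.ShortExact → Coh.IsCoh S.X₁ → Coh.IsCoh S.X₂ → Coh.IsCoh S.X₃ →
        φ S.X₂ = φ S.X₁ + φ S.X₃ := fun S hS a b c => by
      simp only [φ, FGAInt26.ev_additive k hS a b c]
      ring
    suffices hpt : ∀ x : X, x ∈ CohB1.support G → φ (ptMod x) = 0 by
      have h := (Snapper.top_decomposition φ hiso hS hD (fun S hS a b c _ => hadd S hS a b c)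
        (fun M hM hMS hd => sub_eq_zero.2 (ih hM (hMS.trans hs) hd)) G hG subset_rfl).2
      have h0 : φ G = 0 := h.trans (finsum_eq_zero_of_forall_eq_zero fun x => by
        by_cases hx : IsTop d x ∧ x ∈ CohB1.support G
        · rw [Snapper.topTerm_of φ hx.1, hpt x hx.2, smul_zero]
        · exact Snapper.topTerm_eq_zero φ fun h1 h2 => hx ⟨h1, h2⟩)
      exact sub_eq_zero.1 h0
    intro x hx
    let I := Scheme.IdealSheafData.vanishingIdeal (⟨closure ({x} : Set X), isClosed_closure⟩ : Closeds X)
    letI : I.subscheme.Over (Spec (CommRingCat.of k)) := ⟨I.subschemeι ≫ X ↘ Spec (CommRingCat.of k)⟩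
    haveI : IsProper (I.subscheme ↘ Spec (CommRingCat.of k)) :=
      inferInstanceAs (IsProper (I.subschemeι ≫ X ↘ Spec (CommRingCat.of k)))
    haveI := Euler.isNoetherian_of_proper (X := I.subscheme) k
    have hnum : NumReg26.NumCls k (pull I.subschemeι z) := by
      rw [NumReg26.numCls_iff k (NumReg26.hasCls_pullback I.subschemeι (NumReg26.hasCls_rep z))]
      intro Y i _ h1 h2
      rw [NumPull26.curveDeg_pullback_comp]
      refine (congrArg (fun p => Pic13.curveDeg k p _) (Category.assoc i I.subschemeι _).symm).trans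
        (hz Y (i ≫ I.subschemeι) h1 h2 ?_)
      rintro _ ⟨y, rfl⟩
      refine hT.closure_subset_iff.2 (Set.singleton_subset_iff.2 (hs hx)) ?_
      rw [← Snapper.range_pt x]
      exact ⟨i y, rfl⟩
    have h := NumReg26.ev_eq_of_numCls k hnum (Euler.isCoh_of_isInvertible Euler.isInvertible_structure)
    have hc : HasCls (rep z) z := ⟨isInv_rep z, cls_rep z⟩
    refine sub_eq_zero.2 ((FGAInt26.ev_push k I.subschemeι rfl hc).trans (Eq.trans ?_
      (FGAInt26.ev_push k I.subschemeι rfl (Cube.hasCls_structureModule X)).symm))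
    rw [← NumTriv12.evO k (hc.pullback _), ← NumTriv12.evO k ((Cube.hasCls_structureModule X).pullback _), map_one]
    exact h

omit [X.Over (Spec (CommRingCat.of k))] [IsProper (X ↘ Spec (CommRingCat.of k))] in
theorem exists_natCast_eq {t : WithBot ℕ∞} {n : ℕ} (h1 : 1 ≤ t) (h2 : t ≤ (n : WithBot ℕ∞)) :
    ∃ m : ℕ, t = (m : WithBot ℕ∞) := by
  induction t using WithBot.recBotCoe with
  | bot => simp at h1
  | coe t =>
    induction t using ENat.recTopCoe with
    | top =>
      have : (⊤ : ℕ∞) ≤ (n : ℕ∞) := WithBot.coe_le_coe.1 h2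
      simp at this
    | coe m => exact ⟨m, rfl⟩

/-- **Classes trivial on the zero scheme of an ample section**, on an integral scheme. -/
theorem numTriv_of_zero_locus [IsIntegral X] {d : ℕ} (hdim : topologicalKrullDim X = ((d + 3 : ℕ) : WithBot ℕ∞))
    {A : X.Modules} (hA : CohB1.IsAmple A) (s : Coh.structureModule X ⟶ A) [Mono s] {x : Pic X}
    (hz : ∀ (Y : Scheme.{u}) (i : Y ⟶ X) [IsClosedImmersion i], IsIntegral Y → topologicalKrullDim Y = 1 →
      Set.range i ⊆ CohB1.support (cokernel s) →
        Pic13.curveDeg k (i ≫ X ↘ Spec (CommRingCat.of k)) ((Scheme.Modules.pullback i).obj (rep x)) = 0) :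
    NumTriv12.NumTriv k X x := by
  haveI := Euler.isNoetherian_of_proper (X := X) k
  have hAc := Euler.isCoh_of_isInvertible hA.1
  have hOc : Coh.IsCoh (Coh.structureModule X) := Euler.isCoh_of_isInvertible Euler.isInvertible_structure
  have hQ : Coh.IsCoh (cokernel s) := QCoh.isCoh_cokernel s hOc hAc
  let S : ShortComplex X.Modules := ShortComplex.mk s (cokernel.π s) (cokernel.condition s)
  haveI : Mono S.f := ‹Mono s›
  have hS : S.ShortExact := { exact := ShortComplex.exact_of_g_is_cokernel _ (cokernelIsCokernel s) }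
  let a := clsMod hA.1
  have hev : ev k (cokernel s) = fun w =>
      ev k (Coh.structureModule X) (a * w) - ev k (Coh.structureModule X) w := funext fun w => by
    have h : ev k A w = ev k (Coh.structureModule X) w + ev k (cokernel s) w :=
      FGAInt26.ev_additive k hS hOc hAc hQ w
    have hw : HasCls (rep w) w := ⟨isInv_rep w, cls_rep w⟩
    have h2 : ev k A w = ev k (Coh.structureModule X) (a * w) := by
      rw [← FGAInt26.euler_tensor_eq' k hw, NumTriv12.evO k ((hasCls_clsMod hA.1).tensor hw)]
    omega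
  have hdel : ∀ {r : ℕ} (z : Fin r → Pic X),
      del (ev k (Coh.structureModule X)) (Fin.cons a z : Fin (r + 1) → Pic X) = - del (ev k (cokernel s)) z := fun {r} z => by
    rw [hev, FGAInt26.del_sub, del_cons]
    ring
  have hzero : ∀ {r : ℕ} (z : Fin r → Pic X),
      del (ev k (cokernel s)) (Fin.cons x z : Fin (r + 1) → Pic X) = 0 := fun {r} z => by
    rw [del_cons, sub_eq_zero]
    congr 1
    funext w
    rw [mul_comm, ← FGAInt26.ev_tw, ev_eq_on k hz (QCoh.isClosed_support_of_isCoh hQ) (FGAInt26.isCoh_tw k hQ w)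
      (Euler.support_tF_subset (Euler.isFinLocFreeOfRank_one' (isInv_rep w))), FGAInt26.ev_tw, mul_one]
  refine NumTriv12.numTriv_of_orth k (s := d + 1) hdim hA ⟨?_, ?_⟩
  · rw [← NumTriv12.cons_const a (d + 1), NumTriv12.del_swap, hdel, hzero, neg_zero]
  · refine le_of_eq (Eq.symm (mul_eq_zero_of_right _ ?_))
    rw [← NumTriv12.cons_const a d, del_cons, NumTriv12.del_swap _ x a,
      NumTriv12.del_swap (fun w => ev k (Coh.structureModule X) (x * w)) x a, ← del_cons, NumTriv12.del_swap,
      hdel, hzero, neg_zero]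

/-- Numerical triviality on a proper scheme from that on the zero scheme of an ample section. -/
theorem numTriv_of_restrict {H : X.Modules} (hH : CohB1.IsAmple H) (φ : Coh.structureModule X ⟶ H)
    (hdim : ∀ Z ∈ irreducibleComponents (X : Type u),
      ∀ W ∈ irreducibleComponents ↥(Z ∩ Set.range (PicF2.zeroScheme H φ).subschemeι.base), 2 ≤ topologicalKrullDim ↥W)
    {L : X.Modules} (hL : PicF.IsInvertible L)
    (hnum : ∀ (Y : Scheme.{u}) (i : Y ⟶ X) [IsClosedImmersion i], IsIntegral Y → topologicalKrullDim Y = 1 →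
      Set.range i ⊆ Set.range (PicF2.zeroScheme H φ).subschemeι →
        Pic13.curveDeg k (i ≫ X ↘ Spec (CommRingCat.of k)) ((Scheme.Modules.pullback i).obj L) = 0) :
    Pic13.IsNumEquivZero k X L := by
  haveI := Euler.isNoetherian_of_proper (X := X) k
  intro C i _ hC hC1
  haveI := hC
  let c := i (genericPoint C)
  let R := Set.range (PicF2.zeroScheme H φ).subschemeι
  have hR : IsClosed R := (PicF2.zeroScheme H φ).subschemeι.isClosedEmbedding.isClosed_range
  obtain ⟨η, hη⟩ := QuasiSober.sober (isIrreducible_irreducibleComponent (x := c)) isClosed_irreducibleComponent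
  by_cases hηR : η ∈ R
  · refine hnum C i hC hC1 ?_
    rintro _ ⟨y, rfl⟩
    refine (hR.closure_subset_iff.2 (Set.singleton_subset_iff.2 hηR)) ?_
    exact specializes_iff_mem_closure.1 ((specializes_iff_mem_closure.2 (hη.def.ge mem_irreducibleComponent)).trans
      (((genericPoint_spec C).specializes trivial).map i.continuous))
  let J := Scheme.IdealSheafData.vanishingIdeal (⟨closure ({η} : Set X), isClosed_closure⟩ : Closeds X)
  letI : J.subscheme.Over (Spec (CommRingCat.of k)) := ⟨J.subschemeι ≫ X ↘ Spec (CommRingCat.of k)⟩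
  haveI : IsProper (J.subscheme ↘ Spec (CommRingCat.of k)) :=
    inferInstanceAs (IsProper (J.subschemeι ≫ X ↘ Spec (CommRingCat.of k)))
  haveI : IsIntegral J.subscheme := Snapper.isIntegral_pt η
  haveI := Euler.isNoetherian_of_proper (X := J.subscheme) k
  have hrange : Set.range J.subschemeι = closure {η} := Snapper.range_pt η
  have hA : CohB1.IsAmple ((Scheme.Modules.pullback J.subschemeι).obj H) :=
    Ample.isAmple_pullback_of_isAffineHom J.subschemeι hH
  let s : Coh.structureModule J.subscheme ⟶ (Scheme.Modules.pullback J.subschemeι).obj H :=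
    (OX.pullUnitIso J.subschemeι).inv ≫ (Scheme.Modules.pullback J.subschemeι).map φ
  -- the support of the cokernel
  have hsupp : CohB1.support (cokernel s) ⊆ J.subschemeι ⁻¹' R := by
    have hφ : Coh.IsCoh (cokernel φ) := QCoh.isCoh_cokernel φ
      (Euler.isCoh_of_isInvertible Euler.isInvertible_structure) (Euler.isCoh_of_isInvertible hH.1)
    let e : cokernel s ≅ (Scheme.Modules.pullback J.subschemeι).obj (cokernel φ) :=
      cokernelEpiComp _ _ ≪≫ (PreservesCokernel.iso (Scheme.Modules.pullback J.subschemeι) φ).symm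
    rw [QCoh.support_eq_of_iso e, QCoh.support_pullback _ _ hφ]
    exact Set.preimage_mono (support_cokernel_subset hH.1 φ)
  have hs0 : s ≠ 0 := fun h0 => by
    let g := genericPoint J.subscheme
    have hg : J.subschemeι g = η := by
      refine (inseparable_iff_closure_eq.2 ?_).eq
      exact (QCoh.closure_singleton_eq_range J.subschemeι).trans hrange
    obtain ⟨e⟩ : Nonempty (cokernel s ≅ (Scheme.Modules.pullback J.subschemeι).obj H) := by
      exact ⟨cokernelIsoOfEq h0 ≪≫ cokernelZeroIsoTarget⟩
    refine hηR (hg ▸ hsupp ?_)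
    rw [QCoh.support_eq_of_iso e]
    intro hsub
    obtain ⟨t, ht⟩ := Ref1.exists_gen_of_isInvertible hA.1 g
    exact ht.ne_zero (@Subsingleton.elim _ hsub _ _)
  haveI := Euler.mono_of_ne_zero Euler.isInvertible_structure hA.1 hs0
  -- the dimension
  obtain ⟨σ, hσ⟩ := RedSub.exists_lift i J.subschemeι (by
    rw [hrange]
    rintro _ ⟨y, rfl⟩
    exact specializes_iff_mem_closure.1 ((specializes_iff_mem_closure.2 (hη.def.ge mem_irreducibleComponent)).trans
      (((genericPoint_spec C).specializes trivial).map i.continuous)))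
  haveI : IsClosedImmersion (σ ≫ J.subschemeι) := hσ ▸ ‹IsClosedImmersion i›
  haveI : IsClosedImmersion σ := IsClosedImmersion.of_comp_isClosedImmersion σ J.subschemeι
  obtain ⟨n, hn⟩ := FGAInt26.exists_dim_le k J.subscheme
  have h1 : (1 : WithBot ℕ∞) ≤ topologicalKrullDim J.subscheme :=
    hC1 ▸ σ.isClosedEmbedding.topologicalKrullDim_le
  obtain ⟨D, hD⟩ := exists_natCast_eq h1 hn
  have hη' : closure ({η} : Set X) ∈ irreducibleComponents (X : Type u) :=
    hη.def.symm ▸ irreducibleComponent_mem_irreducibleComponents c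
  have hcl : topologicalKrullDim (closure ({η} : Set X)) = (D : WithBot ℕ∞) := by
    rw [← hD, ← hrange]
    exact (IsHomeomorph.topologicalKrullDim_eq _
      J.subschemeι.isClosedEmbedding.isEmbedding.toHomeomorph.isHomeomorph).symm
  have h3 : 3 ≤ D := by
    by_contra hlt
    have hS : IsClosed (closure ({η} : Set X) ∩ R) := isClosed_closure.inter hR
    rcases Set.eq_empty_or_nonempty (closure ({η} : Set X) ∩ R) with h0 | ⟨p, hp⟩
    · -- then the section generates, which is absurd on a positive dimensional scheme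
      have hQe : CohB1.support (cokernel s) = ∅ := Set.eq_empty_of_forall_notMem fun y hy =>
        (Set.eq_empty_iff_forall_notMem.1 h0) (J.subschemeι y) ⟨hrange.le ⟨y, rfl⟩, hsupp hy⟩
      haveI : Epi s := Preadditive.epi_of_cokernel_zero
        ((Hilb20.isZero_of_support_eq_empty hQe).eq_of_tgt _ _)
      haveI := isIso_of_mono_of_epi s
      have h1 := NumReg26.curveDeg_pos_of_ample k hA σ hC1
      have h2 : NumReg26.NumCls k (1 : Pic J.subscheme) := NumReg26.numCls_one k
      rw [NumReg26.numCls_iff k (⟨hA.1, ((Cube.clsMod_eq_iff hA.1 (Cube.hasCls_structureModule J.subscheme).1).2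
        ⟨(asIso s).symm⟩).trans (Cube.hasCls_structureModule J.subscheme).2⟩ : HasCls _ (1 : Pic J.subscheme))] at h2
      rw [h2 C σ hC hC1] at h1
      exact lt_irrefl _ h1
    · obtain ⟨D', rfl⟩ : ∃ D', D = D' + 1 := by
        refine ⟨D - 1, ?_⟩
        have : (1 : WithBot ℕ∞) ≤ (D : WithBot ℕ∞) := hD ▸ h1
        have : 1 ≤ D := by exact_mod_cast this
        omega
      let W := irreducibleComponent (⟨p, hp⟩ : ↥(closure ({η} : Set X) ∩ R))
      have h2 := hdim _ hη' W (irreducibleComponent_mem_irreducibleComponents _)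
      have hd : DimLT (closure ({η} : Set X) ∩ R) (D' + 1) := Snapper.dimLT_of_notMem
        (Snapper.dimLT_of_dim_le hcl.le) Set.inter_subset_left (fun h => hηR h.2)
      have h4 := h2.trans ((isClosed_irreducibleComponent.isClosedEmbedding_subtypeVal.topologicalKrullDim_le).trans
        (Snapper.dim_le_of_dimLT hS hd))
      have : (2 : ℕ) ≤ D' := by exact_mod_cast h4
      omega
  obtain ⟨d, rfl⟩ : ∃ d, D = d + 3 := ⟨D - 3, by omega⟩
  have hLc : HasCls ((Scheme.Modules.pullback J.subschemeι).obj L) (pull J.subschemeι (clsMod hL)) :=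
    (hasCls_clsMod hL).pullback _
  have hnt := numTriv_of_zero_locus k hD hA s (x := pull J.subschemeι (clsMod hL)) (fun Y j _ hY hY1 hj => by
    obtain ⟨e⟩ := (NumReg26.hasCls_rep (pull J.subschemeι (clsMod hL))).iso hLc rfl
    rw [NumPull26.curveDeg_congr k _ ((Scheme.Modules.pullback j).mapIso e), NumPull26.curveDeg_pullback_comp]
    refine (congrArg (fun q => Pic13.curveDeg k q _) (Category.assoc j J.subschemeι _).symm).trans
      (hnum Y (j ≫ J.subschemeι) hY hY1 ?_)
    rintro _ ⟨y, rfl⟩
    exact hsupp (hj ⟨y, rfl⟩))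
  have h := (NumTriv12.numTriv_iff k hLc.1).2 (by
    rw [show clsMod hLc.1 = pull J.subschemeι (clsMod hL) from hLc.2]
    exact hnt) C σ hC hC1
  rw [NumPull26.curveDeg_pullback_comp] at h
  subst hσ
  refine Eq.trans ?_ h
  exact congrArg (fun q => Pic13.curveDeg k q _) (Category.assoc σ J.subschemeι _)

end GrothLib.NumRestr12
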